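import Cfsg.Agent.McLType.ThreeElts
import Cfsg.Agent.Lib.ListFast
import Cfsg.Agent.Prune
set_option linter.all false
prune_inst 0x7f00000000000000000000000000000000000000000000000000000000000000000000000000000000000000000000000000000000000000000000000000000000000000000000000000000000000000003fffffffffffffffffffffffffffbeffbdffffffff
open scoped Cfsg.Agent.FastGrp

/-!
# The Sylow 3-subgroup of the McLaughlin group (helper47, S4095)

`P` is the Sylow 3-subgroup of `K0 ≅ McL` of `McLType.ThreeElts`.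

* `dvd_cent` : the elements of order 3 of `P` commute with a multiple of 27 elements of `P`;
* `Q`, `odd_Q`, `card_Q` : a subgroup of `K0` of odd order at least 1215.
-/

set_option autoImplicit false

namespace Cfsg.Agent.H47.Wk.McLThree

open Subgroup Cfsg Cfsg.Agent.SporadicStructure.PermChain Cfsg.Agent.McLType.Chain Cfsg.Agent.McLType.X275
  Cfsg.Agent.McLType.Gens Cfsg.Agent.McLType.Model Cfsg.Agent.McLType.ThreeElts

/-- A 3-group with two elements which do not commute. -/
theorem dvd_of_noncomm {H : Type*} [Group H] [Finite H] (h : IsPGroup 3 H) {a b : H} (hab : a * b ≠ b * a) :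
    27 ∣ Nat.card H := by
  have : Fact (Nat.Prime 3) := ⟨Nat.prime_three⟩
  obtain ⟨k, hk⟩ := IsPGroup.iff_card.1 h
  rcases Nat.lt_or_ge k 3 with h3 | h3
  · exfalso
    apply hab
    interval_cases k
    · have h1 : Subsingleton H := by
        rw [← Finite.card_le_one_iff_subsingleton, hk]
        norm_num
      rw [Subsingleton.elim a b]
    · have h1 : IsCyclic H := isCyclic_of_prime_card (p := 3) (by rw [hk]; norm_num)
      exact IsCyclic.commGroup.mul_comm a b
    · exact IsPGroup.commutative_of_card_eq_prime_sq hk a b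
  · rw [hk]
    exact pow_dvd_pow 3 h3

/-! ### The elements of order 3 -/

/-- certificates: two elements commuting with the given one, but not with each other -/
def cert2 : ℕ := 0xc0103c010240102c0302804024050280302c05024040280302c050240400c0103c010240102c03028040240502c0302804024050280302c050240400c0103c010240100c0103c010240102c0302804024050280302c05024040280302c050240400c0103c010240102c03028040240502c0302804024050280302c050240400c0103c010240100c0103c010240102c0302804024050280302c05024040280302c050240400c0103c010240102c03028040240502c0302804024050280302c050240400c0103c010240100000000000000000000000000000000000000000000000000000000000000000000000000000000000000000000000000000000000000000000000000000000000000000000000000000000000000000000000000000000000000000000000000000000000000000000000000000000000000000000000000000000000000000000000000000000000000000000000000000000000000000000000000000000000000000000000000000000000000000000000000000000000000000000000000000000000000000000000000000000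000000000000000000000000000000000000000000000000000000000000000000000000000000000000000000000000000000000000000000000000000000000000000000000000000000000000000000000000000000000000000000000000000000000000000000000000000000000000000000000000000000000000000000000000000000000000000000000000000000000000000000000000000000000000000000000000000000000000000000000000000000000000000000000000000000000003c0100c010240102c0502803024040280402c03024050280402c030240503c0100c010240102c05028030240402c0502803024040280402c030240503c0100c010240103c0100c010240102c0502803024040280402c03024050280402c030240503c0100c010240102c05028030240402c0502803024040280402c030240503c0100c010240103c0100c010240102c0502803024040280402c03024050280402c030240503c0100c010240102c05028030240402c0502803024040280402c030240503c0100c0102401000000000000000000000000000000000000000000000000000000000000000000000000000000000000000000000000000000000000000000000000000000000000000000000000000000000000000000000000000000000000000000000000000000000000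0000000000000000000000000000000000000000000000000000000000000000000000000000000000000000000000000000000000000000000000000000000000000000000000000000000000000000000000000000000000000000000000000000000000000000000000000000000000000000000000000000000000000000000000000000000000000000000000000000000000000000000000000000000000000000000000000000000000000000000000000000000000000000000000000000000000000000000000000000000000000000000000000000000000000000000000000000000000000000000000000000000000000000000000000000000000000000000000000000000000000000000000000000000000000000000000000000000000000000000000000000003e4013d80100c013d4043d4053d4033cc053cc04144033d4053d4043d4033d8013e40100c013cc043cc05144033d00b3d00a3d0093d00a3d00b3d0093cc0c3cc0c00c013e4013d80100c013d4043d4053d4033cc053cc04144033d4053d4043d4033d8013e40100c013cc043cc05144033d00b3d00a3d0093d00a3d00b3d0093cc0c3cc0c00c013e4013d80100c013d4043d4053d4033cc053cc04144033d4053d4043d4033d8013e40100c013cc043cc05144033d00b3d00a3d0093d00a3d00b3d0093cc0c3cc0c00000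

def cmB (M N : ℕ) : Bool := Nat.beq (evalWord 9 pt (wn 6 0 M ++ wn 6 0 N) 1) (evalWord 9 pt (wn 6 0 N ++ wn 6 0 M) 1) &&
  Nat.beq (evalWord 9 pt (wn 6 0 M ++ wn 6 0 N) 2) (evalWord 9 pt (wn 6 0 N ++ wn 6 0 M) 2)

def certOK2 (N : ℕ) : Bool :=
  Nat.beq N 0 || (!(fixB (wn 6 0 N ++ (wn 6 0 N ++ wn 6 0 N))) || (Nat.beq (N % 9) 0 ||
    (cmB N (look 20 cert2 N % 1024) && (cmB N (look 20 cert2 N / 1024) &&
      !(cmB (look 20 cert2 N % 1024) (look 20 cert2 N / 1024))))))

private noncomputable def _root_.Cfsg.Agent.LsF.ff26602_0 : {f // @Cfsg.Agent.SporadicStructure.PermChain.allBelow = f} := ⟨_, by first | (delta Cfsg.Agent.SporadicStructure.PermChain.allBelow Cfsg.Agent.SporadicStructure.PermChain.allBelow._f Nat.brecOn.go Nat.brecOn; rewrite [Cfsg.Agent.LsF.and_eq]; (try delta Cfsg.Agent.SporadicStructure.PermChain.allBelow.match_1); (try delta Nat.casesOn); first | dsimp -zeta only | exact rfl) | exact rfl⟩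
private noncomputable def _root_.Cfsg.Agent.LsF.ff26602_1 : {f // @Cfsg.Agent.SporadicStructure.PermChain.look = f} := ⟨_, by first | (delta Cfsg.Agent.SporadicStructure.PermChain.look; rewrite [Cfsg.Agent.LsF.nmul_pat, Cfsg.Agent.LsF.nmod_pat, Cfsg.Agent.LsF.npow_pat, Cfsg.Agent.LsF.nshr_pat]; exact rfl) | exact rfl⟩
private noncomputable def _root_.Cfsg.Agent.LsF.ff26602_2 : {f // @Cfsg.Agent.SporadicStructure.PermChain.evalWord = f} := ⟨_, by first | (delta Cfsg.Agent.SporadicStructure.PermChain.evalWord List.brecOn List.brecOn.go Cfsg.Agent.SporadicStructure.PermChain.evalWord._f; rewrite [Cfsg.Agent.LsF.ff26602_1.2, Cfsg.Agent.LsF.getD_eq]; (try delta Cfsg.Agent.SporadicStructure.PermChain.evalWord.match_1); (try delta List.casesOn); first | dsimp -zeta only | exact rfl) | exact rfl⟩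
private noncomputable def _root_.Cfsg.Agent.LsF.ff26602_3 : {f // @Cfsg.Agent.McLType.ThreeElts.fixB = f} := ⟨_, by first | (delta Cfsg.Agent.McLType.ThreeElts.fixB; rewrite [Cfsg.Agent.LsF.ff26602_2.2, Cfsg.Agent.LsF.and_eq]; exact rfl) | exact rfl⟩
private noncomputable def _root_.Cfsg.Agent.LsF.ff26602_4 : {f // @Cfsg.Agent.McLType.ThreeElts.wn = f} := ⟨_, by first | (delta Cfsg.Agent.McLType.ThreeElts.wn Nat.brecOn.go Nat.brecOn Cfsg.Agent.McLType.ThreeElts.wn._f; rewrite [Cfsg.Agent.LsF.nadd_pat, Cfsg.Agent.LsF.ndiv_pat, Cfsg.Agent.LsF.nmod_pat, Cfsg.Agent.LsF.lappend_pat, Cfsg.Agent.LsF.replicate_eq]; (try delta Cfsg.Agent.McLType.ThreeElts.wn.match_1); (try delta Nat.casesOn); first | dsimp -zeta only | exact rfl) | exact rfl⟩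
private noncomputable def _root_.Cfsg.Agent.LsF.ff26602_5 : {f // @Cfsg.Agent.H47.Wk.McLThree.cmB = f} := ⟨_, by first | (delta Cfsg.Agent.H47.Wk.McLThree.cmB; rewrite [Cfsg.Agent.LsF.ff26602_2.2, Cfsg.Agent.LsF.ff26602_4.2, Cfsg.Agent.LsF.lappend_pat, Cfsg.Agent.LsF.and_eq]; exact rfl) | exact rfl⟩
private noncomputable def _root_.Cfsg.Agent.LsF.ff26602_6 : {f // @Cfsg.Agent.H47.Wk.McLThree.certOK2 = f} := ⟨_, by first | (delta Cfsg.Agent.H47.Wk.McLThree.certOK2; rewrite [Cfsg.Agent.LsF.ff26602_3.2, Cfsg.Agent.LsF.ff26602_4.2, Cfsg.Agent.LsF.ff26602_5.2, Cfsg.Agent.LsF.ff26602_1.2, Cfsg.Agent.LsF.ndiv_pat, Cfsg.Agent.LsF.nmod_pat, Cfsg.Agent.LsF.lappend_pat, Cfsg.Agent.LsF.and_eq, Cfsg.Agent.LsF.or_eq, Cfsg.Agent.LsF.not_eq]; exact rfl) | exact rfl⟩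
theorem cert2_all : allBelow certOK2 729 = true := by ((try (rewrite [Cfsg.Agent.LsF.ff26602_0.2, Cfsg.Agent.LsF.ff26602_6.2])); decide +kernel)

theorem app_lt {M N : ℕ} : ∀ x ∈ wn 6 0 M ++ wn 6 0 N, x < 6 := by
  intro x hx
  rw [List.mem_append] at hx
  exact hx.elim (wn6_lt M x) (wn6_lt N x)

theorem app_prod (M N : ℕ) : ((wn 6 0 M ++ wn 6 0 N).map π).prod = nf M * nf N := by
  rw [List.map_append, List.prod_append]
  rfl

theorem cmB_iff {M N : ℕ} : cmB M N = true ↔ nf M * nf N = nf N * nf M := by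
  have e1 := app_prod M N
  have e2 := app_prod N M
  constructor
  · intro h
    rw [cmB, Bool.and_eq_true, Nat.beq_eq, Nat.beq_eq] at h
    rw [← e1, ← e2]
    refine eq_of_base (word_mem _ app_lt) (word_mem _ app_lt) (Fin.ext ?_) (Fin.ext ?_)
    · rw [evalπ _ app_lt, evalπ _ app_lt]
      exact h.1
    · rw [evalπ _ app_lt, evalπ _ app_lt]
      exact h.2
  · intro h
    rw [cmB, Bool.and_eq_true, Nat.beq_eq, Nat.beq_eq]
    have h1 := evalπ (wn 6 0 M ++ wn 6 0 N) app_lt 1
    have h2 := evalπ (wn 6 0 N ++ wn 6 0 M) app_lt 1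
    have h3 := evalπ (wn 6 0 M ++ wn 6 0 N) app_lt 2
    have h4 := evalπ (wn 6 0 N ++ wn 6 0 M) app_lt 2
    rw [e1, h] at h1 h3
    rw [e2] at h2 h4
    exact ⟨h1.symm.trans h2, h3.symm.trans h4⟩

/-- the elementary abelian subgroup of order 81 -/
def V : Subgroup (Equiv.Perm (Fin 275)) := closure (Sk 2)

theorem V_le : V ≤ P := closure_mono (fun _ ⟨s, _, h2, h3⟩ => ⟨s, Nat.zero_le s, h2, h3⟩)

theorem chkV : ∀ i : Fin 6, ∀ j : Fin 6, 2 ≤ (i : ℕ) → 2 ≤ (j : ℕ) → cmB (3 ^ (i : ℕ)) (3 ^ (j : ℕ)) = true := by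
  decide +kernel

theorem nf_pow : ∀ i : Fin 6, wn 6 0 (3 ^ (i : ℕ)) = [(i : ℕ)] := by decide +kernel

theorem V_comm {a b : Equiv.Perm (Fin 275)} (ha : a ∈ V) (hb : b ∈ V) : a * b = b * a := by
  have h1 : ∀ x ∈ Sk 2, ∀ y ∈ Sk 2, x * y = y * x := by
    rintro _ ⟨i, hi, hi6, rfl⟩ _ ⟨j, hj, hj6, rfl⟩
    have h2 := cmB_iff.1 (chkV ⟨i, hi6⟩ ⟨j, hj6⟩ hi hj)
    have h3 : ∀ k : Fin 6, nf (3 ^ (k : ℕ)) = π k := by
      intro k
      rw [nf, nf_pow]
      simp
    have e1 := h3 ⟨i, hi6⟩
    have e2 := h3 ⟨j, hj6⟩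
    change nf (3 ^ i) = π i at e1
    change nf (3 ^ j) = π j at e2
    change nf (3 ^ i) * nf (3 ^ j) = nf (3 ^ j) * nf (3 ^ i) at h2
    rwa [e1, e2] at h2
  have h2 : closure (Sk 2) ≤ centralizer ((closure (Sk 2) : Subgroup (Equiv.Perm (Fin 275))) : Set (Equiv.Perm (Fin 275))) := by
    rw [closure_le]
    intro x hx
    rw [SetLike.mem_coe, mem_centralizer_iff]
    intro y hy
    have h3 : closure (Sk 2) ≤ centralizer ({x} : Set (Equiv.Perm (Fin 275))) := by
      rw [closure_le]
      intro z hz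
      rw [SetLike.mem_coe, mem_centralizer_singleton_iff]
      exact h1 z hz x hx
    exact mem_centralizer_singleton_iff.1 (h3 hy)
  exact (mem_centralizer_iff.1 (h2 ha) b hb).symm

theorem wn_split (N : ℕ) : wn 6 0 N = List.replicate (N % 3) 0 ++ (List.replicate (N / 3 % 3) 1 ++ wn 4 2 (N / 3 / 3)) := rfl

theorem wn4_mem (M : ℕ) : ((wn 4 2 M).map π).prod ∈ V := by
  apply Subgroup.list_prod_mem
  intro x hx
  obtain ⟨s, hs, rfl⟩ := List.mem_map.1 hx
  refine subset_closure ⟨s, ?_, wn_lt 4 2 M (by norm_num) s hs, rfl⟩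
  have key : ∀ j k N : ℕ, ∀ s ∈ wn j k N, k ≤ s := by
    intro j
    induction j with
    | zero => intro k N s hs; exact absurd hs (List.not_mem_nil)
    | succ j ih =>
      intro k N s hs
      rw [wn, List.mem_append] at hs
      rcases hs with hs | hs
      · rw [List.eq_of_mem_replicate hs]
      · have := ih (k + 1) (N / 3) s hs
        omega
  exact key 4 2 M s hs

theorem nf_split (N : ℕ) : nf N = π 0 ^ (N % 3) * (π 1 ^ (N / 3 % 3) * ((wn 4 2 (N / 3 / 3)).map π).prod) := by
  rw [nf, wn_split, List.map_append, List.prod_append, List.map_append, List.prod_append, List.map_replicate,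
    List.prod_replicate, List.map_replicate, List.prod_replicate]

theorem card_V : 81 ≤ Nat.card V := by
  have h : Function.Surjective (fun x : Fin 3 × Fin 3 × V =>
      (⟨π 0 ^ (x.1 : ℕ) * (π 1 ^ (x.2.1 : ℕ) * x.2.2), P.mul_mem (P.pow_mem (π_mem 0 (by norm_num)) _)
        (P.mul_mem (P.pow_mem (π_mem 1 (by norm_num)) _) (V_le x.2.2.2))⟩ : P)) := by
    rintro ⟨x, hx⟩
    obtain ⟨N, -, rfl⟩ := exists_nf6 hx
    refine ⟨⟨⟨N % 3, Nat.mod_lt _ (by norm_num)⟩, ⟨N / 3 % 3, Nat.mod_lt _ (by norm_num)⟩, ⟨_, wn4_mem (N / 3 / 3)⟩⟩, ?_⟩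
    exact Subtype.ext (nf_split N).symm
  have h1 := Nat.card_le_card_of_surjective _ h
  rw [card_P, Nat.card_prod, Nat.card_prod, Nat.card_eq_fintype_card (α := Fin 3), Fintype.card_fin] at h1
  omega

theorem pgroup_P : IsPGroup 3 P := IsPGroup.of_card (n := 6) (by rw [card_P]; norm_num)

/-- **The centralizers in `P` of the elements of order 3.** -/
theorem dvd_cent {x : Equiv.Perm (Fin 275)} (hx : x ∈ P) (h1 : x ≠ 1) (h3 : x ^ 3 = 1) :
    27 ∣ Nat.card ↥(centralizer ({x} : Set (Equiv.Perm (Fin 275))) ⊓ P) := by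
  have hpg : IsPGroup 3 ↥(centralizer ({x} : Set (Equiv.Perm (Fin 275))) ⊓ P) := pgroup_P.to_le inf_le_right
  obtain ⟨N, hN, rfl⟩ := exists_nf6 hx
  have h := allBelow_spec _ _ cert2_all N hN
  rw [certOK2, Bool.or_eq_true, Bool.or_eq_true, Bool.or_eq_true, Bool.and_eq_true, Bool.and_eq_true] at h
  rcases h with h | h | h | ⟨ha, hb, hc⟩
  · exact absurd (by rw [Nat.eq_of_beq_eq_true h]; exact nf_zero) h1
  · exfalso
    rw [Bool.not_eq_true', ← Bool.not_eq_true] at h
    apply h
    have h4 : ∀ x : Fin 275, evalWord 9 pt (wn 6 0 N ++ (wn 6 0 N ++ wn 6 0 N)) x = x := by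
      intro x
      rw [← evalπ _ (by
        intro s hs
        simp only [List.mem_append] at hs
        rcases hs with hs | hs | hs <;> exact wn6_lt N s hs), List.map_append, List.map_append, List.prod_append,
        List.prod_append]
      change (((nf N * (nf N * nf N)) x : Fin 275) : ℕ) = x
      have h5 : nf N * (nf N * nf N) = nf N ^ 3 := by rw [pow_succ', pow_two]
      rw [h5, h3]
      rfl
    rw [fixB, Bool.and_eq_true, Nat.beq_eq, Nat.beq_eq]
    exact ⟨h4 1, h4 2⟩
  · rw [Nat.beq_eq] at h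
    have h5 : nf N ∈ V := by
      rw [nf_split, show N % 3 = 0 by omega, show N / 3 % 3 = 0 by omega, pow_zero, pow_zero, one_mul, one_mul]
      exact wn4_mem _
    have h6 : V ≤ centralizer ({nf N} : Set (Equiv.Perm (Fin 275))) ⊓ P := by
      refine le_inf ?_ V_le
      intro v hv
      rw [mem_centralizer_singleton_iff]
      exact V_comm hv h5
    have h7 := Subgroup.card_le_of_le h6
    have : Fact (Nat.Prime 3) := ⟨Nat.prime_three⟩
    obtain ⟨k, hk⟩ := IsPGroup.iff_card.1 hpg
    have h8 := card_V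
    rw [hk] at h7 ⊢
    have h9 : 3 ≤ k := by
      by_contra hcon
      have : 3 ^ k ≤ 3 ^ 2 := Nat.pow_le_pow_right (by norm_num) (by omega)
      omega
    exact pow_dvd_pow 3 h9
  · generalize look 20 cert2 N % 1024 = M1 at ha hc
    generalize look 20 cert2 N / 1024 = M2 at hb hc
    have ha' := cmB_iff.1 ha
    have hb' := cmB_iff.1 hb
    have m1 : nf M1 ∈ centralizer ({nf N} : Set (Equiv.Perm (Fin 275))) ⊓ P :=
      ⟨mem_centralizer_singleton_iff.2 ha'.symm, nf_mem M1⟩
    have m2 : nf M2 ∈ centralizer ({nf N} : Set (Equiv.Perm (Fin 275))) ⊓ P :=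
      ⟨mem_centralizer_singleton_iff.2 hb'.symm, nf_mem M2⟩
    refine dvd_of_noncomm hpg (a := ⟨_, m1⟩) (b := ⟨_, m2⟩) ?_
    intro h5
    rw [Bool.not_eq_true', ← Bool.not_eq_true] at hc
    exact hc (cmB_iff.2 (congrArg Subtype.val h5))

/-! ### The subgroup of order 1215 -/

/-- the word of an element of order 5 -/
def Wy : List (Fin 7) := [4, 3, 5, 0, 6, 1, 2, 4, 5, 6, 3, 0, 4, 5, 6, 3, 0, 4, 5, 6, 3, 0, 2, 1, 6, 0, 5, 3, 4]

/-- an element of order 5 -/
def Y : Equiv.Perm (Fin 275) := (Wy.map σ).prod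

def yw : List ℕ := Wy.map (fun k => (k : ℕ))

theorem Y_apply (x : Fin 275) : ((Y x : Fin 275) : ℕ) = evalWord 9 tabs yw x := evalWord_σ Wy x

theorem Y_mem : Y ∈ K0 := word_mem_K0 Wy

private noncomputable def _root_.Cfsg.Agent.LsF.ff26602_7 : {f // @Cfsg.Agent.McLType.Model.idCheck = f} := ⟨_, by first | (delta Cfsg.Agent.McLType.Model.idCheck; rewrite [Cfsg.Agent.LsF.ff26602_0.2, Cfsg.Agent.LsF.ff26602_2.2, Cfsg.Agent.LsF.map_eq]; exact rfl) | exact rfl⟩
theorem chkY5 : idCheck (Wy ++ (Wy ++ (Wy ++ (Wy ++ Wy)))) = true := by ((try (rewrite [Cfsg.Agent.LsF.ff26602_7.2, Cfsg.Agent.LsF.lappend_pat])); decide +kernel)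

theorem chkY1 : Nat.beq (evalWord 9 tabs yw 1) 1 = false := by decide +kernel

theorem Y_pow : Y ^ 5 = 1 := by
  have h : ((Wy ++ (Wy ++ (Wy ++ (Wy ++ Wy)))).map σ).prod = 1 := by
    refine Equiv.ext fun x => Fin.ext ?_
    rw [evalWord_σ]
    exact Nat.eq_of_beq_eq_true (allBelow_spec _ _ chkY5 x x.2)
  rw [List.map_append, List.map_append, List.map_append, List.map_append, List.prod_append, List.prod_append,
    List.prod_append, List.prod_append] at h
  rw [← h]
  change Y ^ 5 = Y * (Y * (Y * (Y * Y)))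
  simp only [pow_succ, pow_zero, one_mul, mul_assoc]

theorem Y_ord : orderOf Y = 5 := by
  have : Fact (Nat.Prime 5) := ⟨Nat.prime_five⟩
  refine orderOf_eq_prime Y_pow ?_
  intro h
  have h1 := Y_apply 1
  rw [h] at h1
  have h2 : evalWord 9 tabs yw 1 = 1 := h1.symm
  have h3 := chkY1
  rw [h2] at h3
  exact absurd h3 (by decide)

/-- the generators of the group of order 243 -/
def SE : Set (Equiv.Perm (Fin 275)) := {x | ∃ s ∈ [0, 1, 2, 3, 5], x = π s}

/-- the extraspecial group of order 243 -/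
def E : Subgroup (Equiv.Perm (Fin 275)) := closure SE

def relsY : List (ℕ × List ℕ) := [(0, [3, 5, 5]), (1, [0, 1, 2, 3, 3, 5]), (2, [0, 1, 1, 2, 3, 5]), (3, [3]), (5, [0, 2, 2])]

def rels4 : List (ℕ × List ℕ) := [(0, [0, 2, 2, 3]), (1, [1, 3, 5]), (2, [2]), (3, [3]), (5, [5])]

private noncomputable def _root_.Cfsg.Agent.LsF.ff26602_8 : {f // @Cfsg.Agent.H47.Wk.McLThree.yw = f} := ⟨_, by first | (delta Cfsg.Agent.H47.Wk.McLThree.yw; rewrite [Cfsg.Agent.LsF.map_eq]; exact rfl) | exact rfl⟩
theorem chkY : relsY.all (fun r => r.2.all (fun s => [0, 1, 2, 3, 5].contains s) && allBelow (fun x =>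
    Nat.beq (evalWord 9 tabs yw (evalWord 9 pt [r.1] x)) (evalWord 9 pt r.2 (evalWord 9 tabs yw x))) 275) = true := by
  ((try (rewrite [Cfsg.Agent.LsF.ff26602_0.2, Cfsg.Agent.LsF.ff26602_2.2, Cfsg.Agent.LsF.ff26602_8.2, Cfsg.Agent.LsF.instNBEq_pat, Cfsg.Agent.LsF.and_eq, Cfsg.Agent.LsF.all_eq, Cfsg.Agent.LsF.contains_eq])); decide +kernel)

theorem chk4 : rels4.all (fun r => r.2.all (fun s => [0, 1, 2, 3, 5].contains s) && allBelow (fun x =>
    Nat.beq (evalWord 9 pt ([4] ++ [r.1]) x) (evalWord 9 pt (r.2 ++ [4]) x)) 275) = true := by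
  decide +kernel

theorem mem_lt {l : List ℕ} (h : ∀ s ∈ l, s ∈ [0, 1, 2, 3, 5]) : ∀ s ∈ l, s < 6 := by
  intro s hs
  have := h s hs
  simp only [List.mem_cons, List.not_mem_nil, or_false] at this
  omega

theorem word_mem_E {l : List ℕ} (h : ∀ s ∈ l, s ∈ [0, 1, 2, 3, 5]) : (l.map π).prod ∈ E := by
  apply Subgroup.list_prod_mem
  intro x hx
  obtain ⟨s, hs, rfl⟩ := List.mem_map.1 hx
  exact subset_closure ⟨s, h s hs, rfl⟩

theorem E_le : E ≤ P := by
  rw [E, closure_le]
  rintro _ ⟨s, hs, rfl⟩
  exact π_mem s (mem_lt (l := [0, 1, 2, 3, 5]) (fun _ h => h) s hs)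

theorem conjY {x : Equiv.Perm (Fin 275)} (hx : x ∈ SE) : Y * x * Y⁻¹ ∈ E := by
  obtain ⟨s, hs, rfl⟩ := hx
  obtain ⟨w, hw⟩ : ∃ w, (s, w) ∈ relsY := by
    simp only [List.mem_cons, List.not_mem_nil, or_false] at hs
    rcases hs with rfl | rfl | rfl | rfl | rfl
    exacts [⟨_, by unfold relsY; simp only [List.mem_cons, true_or]; exact Or.inl rfl⟩,
      ⟨[0, 1, 2, 3, 3, 5], by decide⟩, ⟨[0, 1, 1, 2, 3, 5], by decide⟩, ⟨[3], by decide⟩, ⟨[0, 2, 2], by decide⟩]
  have h := List.all_eq_true.1 chkY _ hw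
  rw [Bool.and_eq_true, List.all_eq_true] at h
  obtain ⟨h1, h2⟩ := h
  have h1' : ∀ s ∈ w, s ∈ [0, 1, 2, 3, 5] := fun s hs => List.contains_iff_mem.1 (h1 s hs)
  have hs6 : s < 6 := mem_lt (l := [0, 1, 2, 3, 5]) (fun _ h => h) s hs
  have h3 : Y * π s = (w.map π).prod * Y := by
    refine Equiv.ext fun x => Fin.ext ?_
    rw [Equiv.Perm.mul_apply, Equiv.Perm.mul_apply, Y_apply, evalπ w (mem_lt h1'), Y_apply]
    have e1 := evalπ [s] (by simpa using hs6) x
    simp only [List.map_cons, List.map_nil, List.prod_singleton] at e1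
    rw [e1]
    exact Nat.eq_of_beq_eq_true (allBelow_spec _ _ h2 x x.2)
  rw [h3, mul_inv_cancel_right]
  exact word_mem_E h1'

theorem conj4 {x : Equiv.Perm (Fin 275)} (hx : x ∈ SE) : π 4 * x * (π 4)⁻¹ ∈ E := by
  obtain ⟨s, hs, rfl⟩ := hx
  obtain ⟨w, hw⟩ : ∃ w, (s, w) ∈ rels4 := by
    simp only [List.mem_cons, List.not_mem_nil, or_false] at hs
    rcases hs with rfl | rfl | rfl | rfl | rfl
    exacts [⟨[0, 2, 2, 3], by decide⟩, ⟨[1, 3, 5], by decide⟩, ⟨[2], by decide⟩, ⟨[3], by decide⟩, ⟨[5], by decide⟩]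
  have h := List.all_eq_true.1 chk4 _ hw
  rw [Bool.and_eq_true, List.all_eq_true] at h
  obtain ⟨h1, h2⟩ := h
  have h1' : ∀ s ∈ w, s ∈ [0, 1, 2, 3, 5] := fun s hs => List.contains_iff_mem.1 (h1 s hs)
  have hs6 : s < 6 := mem_lt (l := [0, 1, 2, 3, 5]) (fun _ h => h) s hs
  have h3 : π 4 * π s = (w.map π).prod * π 4 := by
    refine Equiv.ext fun x => Fin.ext ?_
    have ha := evalπ ([4] ++ [s]) (by
      intro u hu
      simp only [List.cons_append, List.nil_append, List.mem_cons, List.not_mem_nil, or_false] at hu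
      omega) x
    have hb := evalπ (w ++ [4]) (by
      intro u hu
      rw [List.mem_append, List.mem_singleton] at hu
      rcases hu with hu | hu
      · exact mem_lt h1' u hu
      · omega) x
    have hc : (([4] ++ [s]).map π).prod = π 4 * π s := by simp
    have hd : ((w ++ [4]).map π).prod = (w.map π).prod * π 4 := by simp
    rw [hc] at ha
    rw [hd] at hb
    rw [ha, hb]
    exact Nat.eq_of_beq_eq_true (allBelow_spec _ _ h2 x x.2)
  rw [h3, mul_inv_cancel_right]
  exact word_mem_E h1'

theorem card_sup_le {X : Type*} [Group X] [Finite X] {S : Set X} {g : X} (h : ∀ x ∈ S, g * x * g⁻¹ ∈ closure S) :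
    Nat.card ↥(zpowers g ⊔ closure S) ≤ orderOf g * Nat.card (closure S) := by
  have h1 : (closure S).map (MulAut.conj g).toMonoidHom ≤ closure S := by
    rw [MonoidHom.map_closure, closure_le]
    rintro _ ⟨x, hx, rfl⟩
    exact h x hx
  have h2 : (closure S).map (MulAut.conj g).toMonoidHom = closure S := by
    apply Subgroup.eq_of_le_of_card_ge h1
    rw [Subgroup.card_map_of_injective (MulAut.conj g).injective]
  have hn : zpowers g ≤ normalizer ((closure S : Subgroup X) : Set X) := by
    rw [zpowers_le, mem_normalizer_iff]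
    intro u
    constructor
    · intro hu
      have h3 : (MulAut.conj g).toMonoidHom u ∈ (closure S).map (MulAut.conj g).toMonoidHom := ⟨u, hu, rfl⟩
      rw [h2] at h3
      exact h3
    · intro hu
      have h3 : g * u * g⁻¹ ∈ (closure S).map (MulAut.conj g).toMonoidHom := by rw [h2]; exact hu
      obtain ⟨u', hu', h4⟩ := h3
      have h5 : u' = u := (MulAut.conj g).injective h4
      rwa [← h5]
  have h3 := coe_mul_of_left_le_normalizer_right _ _ hn
  rw [← Nat.card_zpowers]
  have h4 : Nat.card ((zpowers g ⊔ closure S : Subgroup X) : Set X) ≤ Nat.card ((zpowers g : Subgroup X) : Set X) *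
      Nat.card ((closure S : Subgroup X) : Set X) := by
    rw [h3]
    exact Set.natCard_mul_le
  exact h4

theorem card_E : 243 ≤ Nat.card E := by
  have h1 : P ≤ zpowers (π 4) ⊔ E := by
    rw [P, closure_le]
    rintro _ ⟨s, -, hs, rfl⟩
    by_cases h4 : s = 4
    · subst h4
      exact (le_sup_left : zpowers (π 4) ≤ _) (mem_zpowers _)
    · refine (le_sup_right : E ≤ zpowers (π 4) ⊔ E) (subset_closure ⟨s, ?_, rfl⟩)
      simp only [List.mem_cons, List.not_mem_nil, or_false]
      omega
  have h2 := Subgroup.card_le_of_le h1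
  have h3 : Nat.card ↥(zpowers (π 4) ⊔ E) ≤ orderOf (π 4) * Nat.card E := card_sup_le (fun x hx => conj4 hx)
  have h4 : orderOf (π 4) ≤ 3 := orderOf_le_of_pow_eq_one (by norm_num) (π_cube 4 (by norm_num))
  rw [card_P] at h2
  have h5 : orderOf (π 4) * Nat.card E ≤ 3 * Nat.card E := Nat.mul_le_mul_right _ h4
  omega

/-- a subgroup of odd order -/
def Q : Subgroup (Equiv.Perm (Fin 275)) := zpowers Y ⊔ E

theorem Q_le : Q ≤ K0 := sup_le (zpowers_le.2 Y_mem) (E_le.trans P_le_K0)

theorem card_Q_eq : Nat.card Q = 5 * Nat.card E := by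
  have h1 : Nat.card Q ≤ orderOf Y * Nat.card E := card_sup_le (fun x hx => conjY hx)
  rw [Y_ord] at h1
  have h2 : 5 ∣ Nat.card Q := by
    rw [← Y_ord, ← Nat.card_zpowers]
    exact Subgroup.card_dvd_of_le le_sup_left
  have h3 : Nat.card E ∣ Nat.card Q := Subgroup.card_dvd_of_le le_sup_right
  have h4 : Nat.card E ∣ 729 := by
    rw [← card_P]
    exact Subgroup.card_dvd_of_le E_le
  have h5 : Nat.Coprime 5 (Nat.card E) := by
    apply Nat.Coprime.coprime_dvd_right h4
    norm_num
  have h6 := Nat.le_of_dvd Nat.card_pos (h5.mul_dvd_of_dvd_of_dvd h2 h3)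
  omega

theorem odd_Q : Odd (Nat.card Q) := by
  rw [card_Q_eq]
  have h4 : Nat.card E ∣ 729 := by
    rw [← card_P]
    exact Subgroup.card_dvd_of_le E_le
  exact (by decide : Odd 5).mul ((by decide : Odd 729).of_dvd_nat h4)

theorem card_Q : 1215 ≤ Nat.card Q := by
  rw [card_Q_eq]
  have := card_E
  omega

end Cfsg.Agent.H47.Wk.McLThree

private theorem dce_d0f10aab27fb : _root_.True := by
  try have : _root_.True := by simp only [_root_.Cfsg.Agent.McLType.ThreeElts.nf.eq_1]
  try have : _root_.True := by simp only [_root_.Cfsg.Agent.H47.Wk.McLThree.cmB.eq_1]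
  try have : _root_.True := by simp only [_root_.Cfsg.Agent.H47.Wk.McLThree.E.eq_1]
  try have : _root_.True := by simp only [_root_.Cfsg.Agent.H47.Wk.McLThree.certOK2.eq_1]
  exact _root_.True.intro
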